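import Cfsg.Agent.H998.PV.Base
import Cfsg.Agent.H713.Two.Ru

/-!
# The row of the Rudvalis group for the prime three (helper998)
-/

set_option autoImplicit false

namespace Cfsg.Agent.H998.PV

open Cfsg Cfsg.Agent.H620.PNorm Cfsg.Agent Cfsg.Agent.SporadicB

universe u

theorem ru_3 {K : Type u} [Group K] (h : Spor.IsoRu K) : VOrdP 3 K := by
  obtain ⟨e⟩ := h
  obtain ⟨χ, -, hχ, -⟩ := H713.Two.Ru.exists_783
  have hdz : H665.NoPQ.HasDZ 3 RuOrder.H := ⟨χ, H713.Two.Ru.fac H713.Two.Ru.f3 hχ RuOrder.card_H⟩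
  exact vOrdP_of_equiv (e.trans RuLat.Main.equiv) (by norm_num) hdz RuOrder.card_H (by norm_num) (by norm_num)

end Cfsg.Agent.H998.PV
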