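import Cfsg.Agent.H998.PV.Base
import Cfsg.Agent.H678.DG.Tits
import Cfsg.Agent.H419.Row

/-!
# The row of the Tits group for the prime five (helper998)
-/

set_option autoImplicit false

namespace Cfsg.Agent.H998.PV

open Cfsg Cfsg.Agent.H620.PNorm

universe u

theorem tits_5 {K : Type u} [Group K] (h : Lie.IsoTits K) : VOrdP 5 K := by
  obtain ⟨e⟩ := h
  obtain ⟨f⟩ := H707.RowTits.equiv
  have hc := Cfsg.Agent.SporadicB.RuTits.card_T
  have : Finite Cfsg.Agent.SporadicB.RuTits.T := Nat.finite_of_card_ne_zero (by rw [hc]; norm_num)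
  obtain ⟨χ, hχ⟩ := Cfsg.Agent.H678.DG.Tits.deg_650
  have hdz : Cfsg.Agent.H665.NoPQ.HasDZ 5 Cfsg.Agent.SporadicB.RuTits.T := by
    refine Cfsg.Agent.H419.Row.dz_of_dvd (n := 2) χ (by rw [hχ]; norm_num) ?_ (by norm_num)
    rw [hc, show 17971200 = 5 ^ 2 * 718848 by norm_num]
    rw [Nat.factorization_mul (by norm_num) (by norm_num), Nat.Prime.factorization_pow (by norm_num)]
    rw [Finsupp.add_apply, Finsupp.single_eq_same, Nat.factorization_eq_zero_of_not_dvd (by norm_num)]
  exact vOrdP_of_equiv (e.trans f) (by norm_num) hdz hc (by norm_num) (by norm_num)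

end Cfsg.Agent.H998.PV
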