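import Cfsg.Agent.H998.PV.Base
import Cfsg.Agent.H690.Spor.Tits

/-!
# The row of the Tits group for the prime three (helper998)
-/

set_option autoImplicit false

namespace Cfsg.Agent.H998.PV

open Cfsg Cfsg.Agent.H620.PNorm

universe u

theorem card_tits' {K : Type u} [Group K] (h : Lie.IsoTits K) : Nat.card K = 2 ^ 11 * (3 ^ 3 * 5 ^ 2 * 13) := by
  obtain ⟨e⟩ := h
  obtain ⟨-, -, -, hcard⟩ := Cfsg.Agent.S1074.result
  have h3 : Nat.card (commutator ↥(Cfsg.Lie.twistedF4 (ZMod 2) 1)) = 2 ^ 11 * 3 ^ 3 * 5 ^ 2 * 13 := hcard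
  have h4 : Nat.card K = Nat.card (commutator ↥(Cfsg.Lie.twistedF4 (ZMod 2) 1)) := Nat.card_congr e.toEquiv
  rw [h4, h3]
  norm_num

theorem tits_3 {K : Type u} [Group K] (h : Lie.IsoTits K) : VOrdP 3 K :=
  vOrdP_of_card (by norm_num) (Cfsg.Agent.H690.Spor.Tits.hasDZ h (by norm_num) (by norm_num) (by norm_num))
    (card_tits' h) (by norm_num) (by norm_num)

end Cfsg.Agent.H998.PV
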