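import Cfsg.Agent.H998.PV.TitsThree
import Cfsg.Agent.H603.FD.TitsRow

/-!
# The row of the Tits group for the prime two (helper998)
-/

set_option autoImplicit false

namespace Cfsg.Agent.H998.PV

open Cfsg Cfsg.Agent.H620.PNorm

universe u

theorem card_model : Nat.card Cfsg.Lie.TitsGroup = 2 ^ 11 * (3 ^ 3 * 5 ^ 2 * 13) := by
  have h : Cfsg.Lie.IsoTits Cfsg.Lie.TitsGroup := ⟨MulEquiv.refl _⟩
  exact card_tits' h

theorem hasDZ_tits_two : Cfsg.Agent.H665.NoPQ.HasDZ 2 Cfsg.Lie.TitsGroup := by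
  obtain ⟨χ, hχ⟩ := Cfsg.Agent.H603.FD.TitsRow.mem_2048
  refine ⟨χ, ?_⟩
  have h1 : (2 ^ 11 * (3 ^ 3 * 5 ^ 2 * 13)).factorization 2 = 11 := by
    rw [Nat.factorization_mul (by norm_num) (by norm_num), Finsupp.add_apply,
      Nat.prime_two.factorization_pow, Finsupp.single_eq_same,
      Nat.factorization_eq_zero_of_not_dvd (n := 3 ^ 3 * 5 ^ 2 * 13) (by norm_num)]
  have h2 : (2048 : ℕ).factorization 2 = 11 := by
    rw [show 2048 = 2 ^ 11 by norm_num, Nat.prime_two.factorization_pow, Finsupp.single_eq_same]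
  rw [hχ, card_model, h1, h2]

theorem tits_2 {K : Type u} [Group K] (h : Lie.IsoTits K) : VOrdP 2 K := by
  obtain ⟨e⟩ := h
  have h1 : VOrdP 2 Cfsg.Lie.TitsGroup :=
    vOrdP_of_card Nat.prime_two hasDZ_tits_two card_model (by norm_num) (by norm_num)
  exact h1.mulEquiv e.symm

theorem tits_2' {K : Type u} [Group K] (h : Lie.IsoTits K) : VPow 2 K := (tits_2 h).vPow

end Cfsg.Agent.H998.PV
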